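import Mathlib.RingTheory.Ideal.AssociatedPrime.Basic
import Mathlib.RingTheory.Ideal.AssociatedPrime.Finiteness
import Mathlib.RingTheory.Regular.IsSMulRegular
import Mathlib.RingTheory.Localization.Ideal
import Mathlib.RingTheory.Ideal.KrullsHeightTheorem
import Mathlib.RingTheory.Flat.Basic
import Mathlib.RingTheory.IntegralClosure.IntegrallyClosed
import Mathlib.RingTheory.Localization.AtPrime.Basic
import Mathlib.LinearAlgebra.TensorProduct.RightExactness
import Mathlib.RingTheory.Localization.FractionRing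

/-!
# Maps out of a flat base change that are bijective in codimension one
-/

set_option autoImplicit false
set_option linter.style.haveILetI false

universe u

open scoped TensorProduct

namespace Groth.Agent.Lib.FlatDesc71

variable {R : Type u} [CommRing R] [IsNoetherianRing R]

/-- An ideal in no associated prime contains a regular element. -/
theorem exists_regular_mem {L : Type u} [AddCommGroup L] [Module R L] [Module.Finite R L] (J : Ideal R)
    (h : ∀ p ∈ associatedPrimes R L, ¬ J ≤ p) : ∃ u ∈ J, IsSMulRegular L u := by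
  by_contra hc
  push Not at hc
  have hfin : (associatedPrimes R L).Finite := associatedPrimes.finite R L
  have hsub : (J : Set R) ⊆ ⋃ p ∈ associatedPrimes R L, (p : Set R) := by
    rw [biUnion_associatedPrimes_eq_compl_regular]
    exact fun u hu => hc u hu
  rw [← hfin.coe_toFinset] at hsub
  obtain ⟨p, hp, hJp⟩ := (Ideal.subset_union_prime (s := hfin.toFinset) (f := fun p => p) ⊥ ⊥
    fun p hp _ _ => (hfin.mem_toFinset.1 hp).isPrime).1 hsub
  exact h p (hfin.mem_toFinset.1 hp) hJp

omit [IsNoetherianRing R] in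
/-- A regular element stays regular on a flat tensor product. -/
theorem regular_tensor {L N : Type u} [AddCommGroup L] [Module R L] [AddCommGroup N] [Module R N]
    [Module.Flat R N] {u : R} (hu : IsSMulRegular L u) : IsSMulRegular (N ⊗[R] L) u := by
  have h := Module.Flat.lTensor_preserves_injective_linearMap (M := N) (LinearMap.lsmul R L u) hu
  intro x y hxy
  have hk : ∀ z : N ⊗[R] L, (LinearMap.lsmul R L u).lTensor N z = u • z := by
    intro z
    induction z using TensorProduct.induction_on with
    | zero => simp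
    | tmul a b => simp [TensorProduct.tmul_smul]
    | add a b ha hb => rw [map_add, ha, hb, smul_add]
  exact h ((hk x).trans (hxy.trans (hk y).symm))

omit [IsNoetherianRing R] in
theorem regular_flat {N : Type u} [AddCommGroup N] [Module R N] [Module.Flat R N] {u : R}
    (hu : IsSMulRegular R u) : IsSMulRegular N u :=
  (LinearEquiv.isSMulRegular_congr (TensorProduct.rid R N) u).1 (regular_tensor hu)

/-- Elements killed near each associated prime vanish. -/
theorem key {L N : Type u} [AddCommGroup L] [Module R L] [Module.Finite R L] [AddCommGroup N]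
    [Module R N] [Module.Flat R N] (z : N ⊗[R] L)
    (h : ∀ p ∈ associatedPrimes R L, ∃ u ∉ p, u • z = 0) : z = 0 := by
  obtain ⟨u, hu, hreg⟩ := exists_regular_mem (L := L)
    (LinearMap.ker (LinearMap.toSpanSingleton R (N ⊗[R] L) z)) fun p hp hle => by
    obtain ⟨v, hv, hvz⟩ := h p hp
    exact hv (hle (by simpa using hvz))
  exact (regular_tensor hreg).right_eq_zero_of_smul (by simpa using hu)

/-- Divisibility may be tested near the associated primes of the quotient. -/
theorem mem_smul {L N : Type u} [AddCommGroup L] [Module R L] [Module.Finite R L] [AddCommGroup N]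
    [Module R N] [Module.Flat R N] (r : R) (z : N ⊗[R] L)
    (h : ∀ p ∈ associatedPrimes R (L ⧸ LinearMap.range (LinearMap.lsmul R L r)),
      ∃ u ∉ p, ∃ y : N ⊗[R] L, u • z = r • y) : ∃ y : N ⊗[R] L, z = r • y := by
  let g := (LinearMap.range (LinearMap.lsmul R L r)).mkQ
  have hex : Function.Exact ((LinearMap.lsmul R L r).lTensor N) (g.lTensor N) :=
    lTensor_exact N (LinearMap.exact_map_mkQ_range _) (Submodule.mkQ_surjective _)
  have hk : ∀ w : N ⊗[R] L, (LinearMap.lsmul R L r).lTensor N w = r • w := by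
    intro w
    induction w using TensorProduct.induction_on with
    | zero => simp
    | tmul a b => simp [TensorProduct.tmul_smul]
    | add a b ha hb => rw [map_add, ha, hb, smul_add]
  obtain ⟨y, hy⟩ := (hex z).1 (key (g.lTensor N z) fun p hp => by
    obtain ⟨u, hu, y, hy⟩ := h p hp
    refine ⟨u, hu, ?_⟩
    rw [← map_smul, hy, ← hk]
    exact (hex _).2 ⟨y, rfl⟩)
  exact ⟨y, hy.symm.trans (hk y)⟩

/-- In a normal Noetherian domain which is local, a principal ideal colon is small. -/
theorem height_maximal_le_one {A : Type u} [CommRing A] [IsNoetherianRing A] [IsLocalRing A] [IsDomain A]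
    [IsIntegrallyClosed A] {r b : A} (hm : ∀ z, z ∈ IsLocalRing.maximalIdeal A ↔ r ∣ z * b) :
    (IsLocalRing.maximalIdeal A).height ≤ 1 := by
  let m := IsLocalRing.maximalIdeal A
  rcases eq_or_ne r 0 with rfl | hr
  · have hb : b ≠ 0 := by
      rintro rfl
      exact (IsLocalRing.maximalIdeal.isMaximal A).ne_top ((Ideal.eq_top_iff_one _).2 ((hm 1).2 (by simp)))
    have : m = ⊥ := eq_bot_iff.2 fun z hz => by
      simpa [hb] using zero_dvd_iff.1 ((hm z).1 hz)
    rw [show IsLocalRing.maximalIdeal A = ⊥ from this]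
    simp
  choose c hc using fun z : m => (hm z).1 z.2
  by_cases hcase : ∃ y : m, IsUnit (c y)
  · obtain ⟨y, hy⟩ := hcase
    obtain ⟨w, hw⟩ := hy.exists_left_inv
    have hmy : m = Ideal.span {(y : A)} := by
      refine le_antisymm (fun z hz => ?_) ((Ideal.span_singleton_le_iff_mem _).2 y.2)
      have e : r * (z * c y) = r * (y * c ⟨z, hz⟩) := by
        calc r * (z * c y) = z * (r * c y) := by ring
          _ = z * (y * b) := by rw [hc y]
          _ = y * (z * b) := by ring
          _ = r * (y * c ⟨z, hz⟩) := by rw [hc ⟨z, hz⟩]; ring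
      refine Ideal.mem_span_singleton'.2 ⟨c ⟨z, hz⟩ * w, ?_⟩
      have e' := mul_left_cancel₀ hr e
      calc c ⟨z, hz⟩ * w * y = w * (y * c ⟨z, hz⟩) := by ring
        _ = z * (w * c y) := by rw [← e']; ring
        _ = z := by rw [hw, mul_one]
    have hp : m.IsPrincipal := ⟨⟨y, hmy⟩⟩
    exact Ideal.height_le_one_of_isPrincipal_of_mem_minimalPrimes m m
      ((Ideal.minimalPrimes_eq_subsingleton_self (I := m)).symm ▸ rfl)
  · push Not at hcase
    exfalso
    let K := FractionRing A
    let x : K := algebraMap A K b / algebraMap A K r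
    have hr' : algebraMap A K r ≠ 0 := by simpa using hr
    have hb : algebraMap A K b = x * algebraMap A K r := (div_mul_cancel₀ _ hr').symm
    have hx : ∀ z : m, x * algebraMap A K z = algebraMap A K (c z) := fun z => by
      rw [← mul_left_inj' hr', mul_right_comm, ← hb, ← map_mul, ← map_mul, mul_comm b, hc z, mul_comm]
    have hne : m ≠ ⊥ := fun h0 => by
      have := (hm r).2 (dvd_mul_right r b)
      exact hr (by simpa [show IsLocalRing.maximalIdeal A = ⊥ from h0] using this)
    have hint : IsIntegral A x := by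
      refine isIntegral_of_smul_mem_submodule (Submodule.map (Algebra.linearMap A K) m) ?_
        ((IsNoetherian.noetherian m).map _) x ?_
      · intro h0
        exact hne (Submodule.map_injective_of_injective (IsFractionRing.injective A K) (h0.trans (Submodule.map_bot _).symm))
      · rintro _ ⟨z, hz, rfl⟩
        refine ⟨c ⟨z, hz⟩, IsLocalRing.mem_maximalIdeal _ |>.2 (hcase _), ?_⟩
        exact (hx ⟨z, hz⟩).symm
    obtain ⟨a, ha⟩ := IsIntegrallyClosed.algebraMap_eq_of_integral hint
    have : r ∣ b := ⟨a, IsFractionRing.injective A K (by rw [hb, ← ha, map_mul, mul_comm])⟩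
    exact (IsLocalRing.maximalIdeal.isMaximal A).ne_top
      ((Ideal.eq_top_iff_one _).2 ((hm 1).2 (by rwa [one_mul])))

/-- Associated primes of principal quotients of a normal ring have height at most one. -/
theorem height_le_one (hloc : ∀ (p : Ideal R) [p.IsPrime],
      IsDomain (Localization.AtPrime p) ∧ IsIntegrallyClosed (Localization.AtPrime p))
    {r : R} {p : Ideal R} (hp : p ∈ associatedPrimes R (R ⧸ Ideal.span {r})) : p.height ≤ 1 := by
  haveI : p.IsPrime := hp.isPrime
  obtain ⟨-, b', hb⟩ := isAssociatedPrime_iff.1 hp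
  obtain ⟨b, rfl⟩ := Ideal.Quotient.mk_surjective b'
  have hmem : ∀ z : R, z ∈ p ↔ r ∣ z * b := fun z => by
    rw [hb, Submodule.mem_colon_singleton, Submodule.mem_bot, Algebra.smul_def,
      Ideal.Quotient.algebraMap_eq, ← map_mul, Ideal.Quotient.eq_zero_iff_mem, Ideal.mem_span_singleton]
  obtain ⟨_, _⟩ := hloc p
  let L := Localization.AtPrime p
  have e : (p.height : WithBot ℕ∞) = (IsLocalRing.maximalIdeal L).height :=
    (IsLocalization.AtPrime.ringKrullDim_eq_height p L).symm.trans
      IsLocalRing.maximalIdeal_height_eq_ringKrullDim.symm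
  rw [WithBot.coe_inj.1 e]
  refine height_maximal_le_one (r := algebraMap R L r) (b := algebraMap R L b) fun z => ?_
  obtain ⟨⟨z, s⟩, rfl⟩ := IsLocalization.mk'_surjective p.primeCompl (S := L) z
  simp only
  rw [IsLocalization.AtPrime.mk'_mem_maximal_iff L p, hmem]
  constructor
  · rintro ⟨c, hc⟩
    refine ⟨IsLocalization.mk' L c s, ?_⟩
    rw [mul_comm (IsLocalization.mk' L z s), IsLocalization.mul_mk'_eq_mk'_of_mul,
      IsLocalization.mul_mk'_eq_mk'_of_mul, mul_comm b, hc]
  · rintro ⟨w, hw⟩
    obtain ⟨⟨c, t⟩, rfl⟩ := IsLocalization.mk'_surjective p.primeCompl (S := L) w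
    simp only at hw
    rw [mul_comm (IsLocalization.mk' L z s), IsLocalization.mul_mk'_eq_mk'_of_mul,
      IsLocalization.mul_mk'_eq_mk'_of_mul, IsLocalization.mk'_eq_iff_eq] at hw
    obtain ⟨v, hv⟩ := (IsLocalization.eq_iff_exists p.primeCompl L).1 hw
    have hvt : ((v : R) * t * z) ∈ p := (hmem _).2 ⟨v * s * c, by linear_combination hv⟩
    exact (hmem z).1 ((Ideal.IsPrime.mem_or_mem inferInstance hvt).resolve_left
      fun h => ((Ideal.IsPrime.mem_or_mem inferInstance h).elim v.2 t.2))

/-- A map out of a flat base change bijective in codimension one is bijective. -/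
theorem bijective {M T N : Type u} {A : Type u} [AddCommGroup A] [Module R A] [Module.Flat R A]
    [AddCommGroup M] [Module R M] [Module.Finite R M]
    [AddCommGroup T] [Module R T] [AddCommGroup N] [Module R N] [Module.Flat R N]
    (e : A ⊗[R] M ≃ₗ[R] T) (φ : T →ₗ[R] N)
    (hR : ∀ p ∈ associatedPrimes R R, p.height ≤ 1)
    (hM : ∀ p ∈ associatedPrimes R M, p.height ≤ 1)
    (hsat : ∀ (r : R) (m : M), IsSMulRegular R r →
      (∀ p : Ideal R, p.IsPrime → p.height ≤ 1 → ∃ u ∉ p, ∃ m', u • m = r • m') → ∃ m', m = r • m')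
    (hk : ∀ p : Ideal R, p.IsPrime → p.height ≤ 1 → ∀ t : T, φ t = 0 → ∃ u ∉ p, u • t = 0)
    (hc : ∀ p : Ideal R, p.IsPrime → p.height ≤ 1 → ∀ n : N, ∃ u ∉ p, ∃ t : T, u • n = φ t) :
    Function.Bijective φ := by
  have hinj : ∀ t : T, φ t = 0 → t = 0 := fun t ht => by
    refine e.symm.injective ?_
    rw [map_zero]
    refine key _ fun p hp => ?_
    obtain ⟨u, hu, hut⟩ := hk p hp.isPrime (hM p hp) t ht
    exact ⟨u, hu, by rw [← map_smul, hut, map_zero]⟩
  refine ⟨fun a b h => sub_eq_zero.1 (hinj _ (by rw [map_sub, h, sub_self])), fun n => ?_⟩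
  obtain ⟨r, hr, hreg⟩ := exists_regular_mem (L := R)
    ((LinearMap.range φ).comap (LinearMap.toSpanSingleton R N n)) fun p hp hle => by
    obtain ⟨u, hu, t, ht⟩ := hc p hp.isPrime (hR p hp) n
    exact hu (hle ⟨t, ht.symm.trans (LinearMap.toSpanSingleton_apply ..).symm⟩)
  obtain ⟨t, ht⟩ : ∃ t, φ t = r • n := hr
  obtain ⟨y, hy⟩ := mem_smul r (e.symm t) fun p hp => by
    haveI : p.IsPrime := hp.isPrime
    obtain ⟨-, m', hm'⟩ := isAssociatedPrime_iff.1 hp
    obtain ⟨m, rfl⟩ := Submodule.mkQ_surjective _ m'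
    obtain ⟨q, hqp, hq, hqle⟩ : ∃ q : Ideal R, q.IsPrime ∧ q.height ≤ 1 ∧ p ≤ q := by
      by_contra hno
      push Not at hno
      obtain ⟨m', hm''⟩ := hsat r m hreg fun q hq hq1 => by
        obtain ⟨u, hup, huq⟩ := SetLike.not_le_iff_exists.1 (hno q hq hq1)
        rw [hm', Submodule.mem_colon_singleton, Submodule.mem_bot, ← map_smul, Submodule.mkQ_apply,
          Submodule.Quotient.mk_eq_zero] at hup
        obtain ⟨m', hm''⟩ := hup
        exact ⟨u, huq, m', hm''.symm⟩
      have h1 : (1 : R) ∈ p := by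
        rw [hm', Submodule.mem_colon_singleton, Submodule.mem_bot, one_smul, Submodule.mkQ_apply,
          Submodule.Quotient.mk_eq_zero]
        exact ⟨m', hm''.symm⟩
      exact (inferInstance : p.IsPrime).ne_top ((Ideal.eq_top_iff_one _).2 h1)
    obtain ⟨u, hu, t₁, ht₁⟩ := hc q hqp hq n
    obtain ⟨v, hv, hv0⟩ := hk q hqp hq (u • t - r • t₁) (by
      rw [map_sub, map_smul, map_smul, ht, ← ht₁, smul_comm, sub_self])
    refine ⟨v * u, fun h => ((hqp.mem_or_mem (hqle h)).elim hv hu), v • e.symm t₁, ?_⟩
    rw [smul_sub, sub_eq_zero, smul_smul, smul_comm v r] at hv0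
    rw [← map_smul, hv0, map_smul, map_smul]
  refine ⟨e y, regular_flat hreg ?_⟩
  show r • φ (e y) = r • n
  rw [← map_smul, ← map_smul, ← hy, e.apply_symm_apply, ht]

end Groth.Agent.Lib.FlatDesc71
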