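import Groth.Agent.Lib.PicSpread53.Main
import Groth.Agent.Lib.TensorMod.Basis
import Groth.Agent.Lib.Modules.AffineSections
import Groth.Agent.S4790

/-!
# A module free over a local scheme is free over a neighbourhood
-/

set_option autoImplicit false
set_option linter.style.haveILetI false
set_option backward.isDefEq.respectTransparency false

universe u

open CategoryTheory CategoryTheory.Limits AlgebraicGeometry

namespace Groth.Agent.Lib.FlatDesc71

open Groth.Agent.Lib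

theorem exists_basis_near {X S : Scheme.{u}} (f : X ⟶ S) [QuasiCompact f] [QuasiSeparated f] (s : S)
    (E : X.Modules) (hE : FlatMod.IsFinLocFree E) (r : ℕ)
    (e₀ : (Scheme.Modules.pullback (pullback.fst f (S.fromSpecStalk s))).obj E ≅
      FlatMod.freeMod (pullback f (S.fromSpecStalk s)) r) :
    ∃ (V : S.Opens) (_ : s ∈ V) (e : Fin r → Γ(E, f ⁻¹ᵁ V)), TensorMod.Basis.IsBasis e := by
  obtain ⟨W, hW, hsW, -⟩ := exists_isAffineOpen_mem_and_subset (x := s) (U := (⊤ : S.Opens)) trivial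
  let p : PrimeSpectrum Γ(S, W) := hW.primeIdealOf ⟨s, hsW⟩
  letI : Algebra Γ(S, W) (S.presheaf.stalk s) := TopCat.Presheaf.algebra_section_stalk S.presheaf ⟨s, hsW⟩
  haveI : IsLocalization.AtPrime (S.presheaf.stalk s) p.asIdeal := hW.isLocalization_stalk ⟨s, hsW⟩
  let e := IsLocalization.algEquiv p.asIdeal.primeCompl (S.presheaf.stalk s)
    (Localization.AtPrime p.asIdeal)
  haveI : IsIso (CommRingCat.ofHom e.toRingEquiv.toRingHom) := e.toRingEquiv.toCommRingCatIso.isIso_hom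
  let g : Spec (Lim.LocalLimit.loc p) ≅ Spec (S.presheaf.stalk s) :=
    asIso (Spec.map (CommRingCat.ofHom e.toRingEquiv.toRingHom))
  let i₀ : Lim.LocalLimit.Nhd p := ⟨1, p.asIdeal.ne_top_iff_one.1 p.2.ne_top⟩
  let b : (Lim.LocalLimit.op' p i₀ : Scheme.{u}) ⟶ S := (Lim.LocalLimit.op' p i₀).ι ≫ hW.fromSpec
  haveI : IsAffine (Lim.LocalLimit.op' p i₀ : Scheme.{u}) := IsAffineOpen.Spec_basicOpen _
  let π₀ : Spec (Lim.LocalLimit.loc p) ⟶ Lim.LocalLimit.op' p i₀ := (Lim.LocalLimit.cone p).π.app i₀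
  have hπb : π₀ ≫ b = g.hom ≫ S.fromSpecStalk s := by
    have h : Spec.map (CommRingCat.ofHom e.toRingEquiv.toRingHom) ≫ S.fromSpecStalk s =
        Lim.LocalLimit.toSpec p ≫ hW.fromSpec := by
      rw [← hW.fromSpecStalk_eq_fromSpecStalk hsW]
      show Spec.map _ ≫ Spec.map (S.presheaf.germ W s hsW) ≫ hW.fromSpec = _
      rw [← Category.assoc, ← Spec.map_comp]
      congr 2
      ext a
      exact e.commutes a
    rw [← Category.assoc]
    exact (congrArg (· ≫ hW.fromSpec) (Lim.LocalLimit.cone_π_ι p i₀)).trans h.symm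
  let P := pullback f (S.fromSpecStalk s)
  let a : pullback f b ⟶ Lim.LocalLimit.op' p i₀ := pullback.snd f b
  let q : P ⟶ pullback f b := pullback.lift (pullback.fst _ _)
    (pullback.snd f (S.fromSpecStalk s) ≫ g.inv ≫ π₀)
    (by rw [Category.assoc, Category.assoc, hπb, Iso.inv_hom_id_assoc, pullback.condition])
  have sq : IsPullback q (pullback.snd f (S.fromSpecStalk s) ≫ g.inv) a π₀ := by
    refine IsPullback.of_right ?_ ((pullback.lift_snd _ _ _).trans (Category.assoc _ _ _).symm)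
      (IsPullback.of_hasPullback f b)
    rw [pullback.lift_fst]
    refine (IsPullback.of_hasPullback f (S.fromSpecStalk s)).of_iso (Iso.refl _) (Iso.refl _) g.symm
      (Iso.refl _) ?_ ?_ ?_ ?_
    · simp
    · simp
    · simp
    · simp [hπb]
  haveI : QuasiCompact a := MorphismProperty.pullback_snd _ _ ‹_›
  haveI : QuasiSeparated a := MorphismProperty.pullback_snd _ _ ‹_›
  haveI : CompactSpace (pullback f b : Scheme.{u}) := QuasiCompact.compactSpace_of_compactSpace a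
  haveI : QuasiSeparatedSpace (pullback f b : Scheme.{u}) := quasiSeparatedSpace_of_quasiSeparated a
  let D := Lim.LocalLimit.diag p
  haveI : ∀ {i j : Lim.LocalLimit.Nhd p} (φ : i ⟶ j), IsAffineHom (D.map φ) := fun _ => inferInstance
  let BD := Lim.Basic.bcDiagram D a
  haveI : ∀ (i j : Over i₀) (φ : i ⟶ j), IsAffineHom (BD.map φ) := fun i j φ =>
    Lim.Basic.isAffineHom_bcDiagram_map D a φ
  let j₀ : Over i₀ := Over.mk (𝟙 i₀)
  haveI : CompactSpace (BD.obj j₀) := Lim.Basic.compactSpace_bcDiagram D a j₀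
  haveI : QuasiSeparatedSpace (BD.obj j₀) := Lim.Basic.quasiSeparatedSpace_bcDiagram D a j₀
  have hlim := Lim.Basic.isLimitBcCone (Lim.LocalLimit.isLimit p) sq
  let c₀ : BD.obj j₀ ⟶ X := pullback.fst a (D.map j₀.hom) ≫ pullback.fst f b
  let F₀ := (Scheme.Modules.pullback c₀).obj E
  let G₀ := FlatMod.freeMod (BD.obj j₀) r
  have hF : FlatMod.IsFinLocFree F₀ := TensorMod.LocFree.isFinLocFree_pullback c₀ hE
  have hG : FlatMod.IsFinLocFree G₀ := fun x =>
    let ⟨U, hx, hi⟩ := TensorMod.LocFree.isFinLocFree_freeMod (BD.obj j₀) r x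
    ⟨U, r, hx, hi⟩
  haveI : Coh.IsQCoh F₀ := Modules.AffineSections.isQCoh_of_isFinLocFree hF
  haveI : Coh.IsQCoh G₀ := Modules.AffineSections.isQCoh_of_isFinLocFree hG
  have hc₀ : (Lim.Basic.bcCone sq.w).π.app j₀ ≫ c₀ = pullback.fst f (S.fromSpecStalk s) := by
    refine (Category.assoc _ _ _).symm.trans ?_
    rw [Lim.Basic.bcCone_π_fst]
    exact pullback.lift_fst _ _ _
  obtain ⟨k, φ, ⟨ek⟩⟩ := (Groth.Agent.S4790.result BD (Lim.Basic.bcCone sq.w) hlim j₀ F₀ G₀
    (TensorMod.FPConv.isFP_of_isFinLocFree hF) (TensorMod.FPConv.isFP_of_isFinLocFree hG)).1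
    ⟨(Scheme.Modules.pullbackComp _ c₀).app E ≪≫ (Scheme.Modules.pullbackCongr hc₀).app E ≪≫ e₀ ≪≫
      (TensorMod.LocFree.pullbackFreeModIso _ r).symm⟩
  let bk : D.obj k.left ⟶ S := (Lim.LocalLimit.op' p k.left).ι ≫ hW.fromSpec
  have hbk : D.map k.hom ≫ b = bk := by simp [D, b, bk, Lim.LocalLimit.diag]
  haveI : IsOpenImmersion bk := inferInstanceAs (IsOpenImmersion (_ ≫ _))
  let c : BD.obj k ⟶ X := pullback.fst a (D.map k.hom) ≫ pullback.fst f b
  have sqk : IsPullback c (pullback.snd a (D.map k.hom)) f bk := by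
    rw [← hbk]
    exact (IsPullback.of_hasPullback a (D.map k.hom)).paste_horiz (IsPullback.of_hasPullback f b)
  haveI : IsOpenImmersion c := MorphismProperty.of_isPullback sqk.flip inferInstance
  let V : S.Opens := bk.opensRange
  have hr : Set.range ((f ⁻¹ᵁ V).ι ≫ f) ⊆ Set.range bk := by
    rintro _ ⟨y, rfl⟩
    exact y.2
  let θ : (↑(f ⁻¹ᵁ V) : Scheme.{u}) ⟶ BD.obj k :=
    sqk.lift (f ⁻¹ᵁ V).ι (IsOpenImmersion.lift bk ((f ⁻¹ᵁ V).ι ≫ f) hr) (IsOpenImmersion.lift_fac _ _ _).symm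
  have hθ : θ ≫ BD.map φ ≫ c₀ = (f ⁻¹ᵁ V).ι := by
    refine Eq.trans (congrArg (θ ≫ ·) ?_) (sqk.lift_fst _ _ _)
    show BD.map φ ≫ pullback.fst a (D.map j₀.hom) ≫ pullback.fst f b =
      pullback.fst a (D.map k.hom) ≫ pullback.fst f b
    rw [← Category.assoc]
    congr 1
    exact pullback.lift_fst _ _ _ |>.trans (Category.comp_id _)
  obtain ⟨e, he⟩ := TensorMod.Basis.exists_basis_of_iso (U := f ⁻¹ᵁ V)
    ((Scheme.Modules.restrictFunctorIsoPullback (f ⁻¹ᵁ V).ι).app E ≪≫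
      (Scheme.Modules.pullbackCongr hθ.symm).app E ≪≫
      (Scheme.Modules.pullbackComp θ (BD.map φ ≫ c₀)).symm.app E ≪≫
      (Scheme.Modules.pullback θ).mapIso ((Scheme.Modules.pullbackComp (BD.map φ) c₀).symm.app E ≪≫
        ek ≪≫ TensorMod.LocFree.pullbackFreeModIso _ r) ≪≫
      TensorMod.LocFree.pullbackFreeModIso θ r)
  exact ⟨V, ⟨⟨p, k.left.2⟩, hW.fromSpec_primeIdealOf ⟨s, hsW⟩⟩, e, he⟩

end Groth.Agent.Lib.FlatDesc71
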