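import Groth.Agent.Lib.FlatDesc71.Alg
import Groth.Agent.Lib.FlatDesc71.Near
import Groth.Agent.Lib.CechRes.PullSec
import Groth.Agent.Lib.CohDelta.BC.Transpose
import Groth.Agent.Lib.CohBasics.Closure
import Groth.Agent.Lib.Cyc.PP.Push
import Groth.Agent.Lib.Devissage.LocFreeK0
import Groth.Agent.H52.QCoh.ProjLocal
import Groth.Prelude.Def_Pi1

/-!
# A locally free module which is free over the points of codimension at most one descends
-/

set_option autoImplicit false
set_option linter.style.haveILetI false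
set_option maxHeartbeats 1600000

noncomputable section

universe u

open CategoryTheory CategoryTheory.Limits AlgebraicGeometry TopologicalSpace Opposite
open scoped TensorProduct

namespace Groth.Agent.Lib.FlatDesc71

open Groth.Agent.Lib Groth.Agent.Lib.TensorMod.Dual Groth.Agent.Lib.CechRes.PullSec
open Groth.Agent.Lib.TensorMod.Basis (comb IsBasis)

variable {X S : Scheme.{u}} (f : X ⟶ S) (E : X.Modules)

/-- The direct image. -/
abbrev pushM : S.Modules := (Scheme.Modules.pushforward f).obj E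

local notation "pb" => Scheme.Modules.pullback f
/-- The counit at the module. -/
abbrev counitM : (Scheme.Modules.pullback f).obj (pushM f E) ⟶ E :=
  (Scheme.Modules.pullbackPushforwardAdjunction f).counit.app E

theorem counit_mu {U : X.Opens} {W : S.Opens} (e : U ≤ f ⁻¹ᵁ W) (m : Γ((pushM f E), W)) :
    ((counitM f E)).app U (mu f (pushM f E) e m) = rs E e m := by
  let η := (Scheme.Modules.pullbackPushforwardAdjunction f).unit.app (pushM f E)
  refine (((counitM f E)).mapPresheaf.naturality_apply (homOfLE e).op (η.app W m)).trans ?_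
  refine congrArg (E.presheaf.map (homOfLE e).op) ?_
  exact congrArg (fun φ : (pushM f E) ⟶ (pushM f E) => φ.app W m)
    ((Scheme.Modules.pullbackPushforwardAdjunction f).right_triangle_components E)

/-- The counit is bijective on affine opens over an open where there is a basis. -/
theorem bijective_counit_of_basis [((pushM f E)).IsQuasicoherent] (hO : ∀ U : S.Opens, Function.Bijective (f.app U).hom)
    {V D : S.Opens} {r : ℕ} (e₀ : Fin r → Γ(E, f ⁻¹ᵁ V)) (he : IsBasis e₀) (hD : IsAffineOpen D)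
    (hDV : D ≤ V) {C : X.Opens} (hC : IsAffineOpen C) (hCD : C ≤ f ⁻¹ᵁ D) :
    Function.Bijective (((counitM f E)).app C) := by
  letI : Algebra Γ(S, D) Γ(X, C) := (f.appLE D C hCD).hom.toAlgebra
  letI : Module Γ(S, D) Γ((pb).obj (pushM f E), C) := Module.compHom _ (f.appLE D C hCD).hom
  haveI : IsScalarTower Γ(S, D) Γ(X, C) Γ((pb).obj (pushM f E), C) :=
    IsScalarTower.of_algebraMap_smul fun _ _ => rfl
  let hb := isBaseChange_mu f (pushM f E) hD hC hCD
  let k : Fin r → Γ((pushM f E), D) := fun i => rs E (f.preimage_mono hDV) (e₀ i)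
  have hspan : ∀ y : Γ((pb).obj (pushM f E), C), ∃ a : Fin r → Γ(X, C), y = ∑ i, a i • mu f (pushM f E) hCD (k i) := by
    intro y
    induction y using hb.inductionOn with
    | zero => exact ⟨0, by simp⟩
    | tmul m =>
      obtain ⟨b, hbm⟩ := (he _ (f.preimage_mono hDV)).2 m
      choose c hc using fun i => (hO D).2 (b i)
      refine ⟨fun i => f.appLE D C hCD (c i), ?_⟩
      have hm : m = ∑ i, c i • k i := by
        rw [← hbm]
        exact Finset.sum_congr rfl fun i _ => congrArg (· • _) (hc i).symm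
      show mu f (pushM f E) hCD m = _
      rw [hm, map_sum]
      exact Finset.sum_congr rfl fun i _ => (mu f (pushM f E) hCD).map_smulₛₗ _ _
    | smul s y hy =>
      obtain ⟨a, rfl⟩ := hy
      exact ⟨fun i => s * a i, by rw [Finset.smul_sum]; simp only [smul_smul]⟩
    | add y z hy hz =>
      obtain ⟨a, rfl⟩ := hy
      obtain ⟨b, rfl⟩ := hz
      exact ⟨a + b, by simp only [Pi.add_apply, add_smul, Finset.sum_add_distrib]⟩
  have hval : ∀ a : Fin r → Γ(X, C),
      ((counitM f E)).app C (∑ i, a i • mu f (pushM f E) hCD (k i)) = comb e₀ (hCD.trans (f.preimage_mono hDV)) a := by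
    intro a
    rw [map_sum]
    refine Finset.sum_congr rfl fun i _ => ?_
    rw [Scheme.Modules.Hom.app_smul, counit_mu]
    exact congrArg (a i • ·) (rs_rs E _ _ _)
  constructor
  · intro y z h
    obtain ⟨a, rfl⟩ := hspan y
    obtain ⟨b, rfl⟩ := hspan z
    rw [hval, hval] at h
    rw [(he _ _).1 h]
  · intro n
    obtain ⟨a, rfl⟩ := (he _ (hCD.trans (f.preimage_mono hDV))).2 n
    exact ⟨_, hval a⟩

theorem exists_good [QuasiCompact f] [QuasiSeparated f] (hE : FlatMod.IsFinLocFree E)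
    (h1 : ∀ s : S, ringKrullDim (S.presheaf.stalk s) ≤ 1 →
      ∃ r : ℕ, Nonempty ((Scheme.Modules.pullback (pullback.fst f (S.fromSpecStalk s))).obj E ≅
        FlatMod.freeMod (pullback f (S.fromSpecStalk s)) r))
    {W : S.Opens} (hW : IsAffineOpen W) (p : Ideal Γ(S, W)) [p.IsPrime] (hp : p.height ≤ 1) :
    ∃ a ∉ p, ∃ (V : S.Opens) (r : ℕ) (e : Fin r → Γ(E, f ⁻¹ᵁ V)), S.basicOpen a ≤ V ∧ IsBasis e := by
  let P : PrimeSpectrum Γ(S, W) := ⟨p, inferInstance⟩
  let s : S := hW.fromSpec P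
  have hs : s ∈ W := hW.opensRange_fromSpec.le ⟨P, rfl⟩
  have hP : hW.primeIdealOf ⟨s, hs⟩ = P :=
    hW.fromSpec.isOpenEmbedding.injective (hW.fromSpec_primeIdealOf ⟨s, hs⟩)
  letI : Algebra Γ(S, W) (S.presheaf.stalk s) := TopCat.Presheaf.algebra_section_stalk S.presheaf ⟨s, hs⟩
  haveI : IsLocalization.AtPrime (S.presheaf.stalk s) p := by
    have := hW.isLocalization_stalk ⟨s, hs⟩
    rwa [hP] at this
  obtain ⟨r, ⟨e₀⟩⟩ := h1 s (by
    rw [IsLocalization.AtPrime.ringKrullDim_eq_height p (S.presheaf.stalk s)]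
    exact_mod_cast hp)
  obtain ⟨V, hsV, e, he⟩ := exists_basis_near f s E hE r e₀
  obtain ⟨a, haV, hsa⟩ := hW.exists_basicOpen_le (⟨s, hsV⟩ : V) hs
  refine ⟨a, fun ha => ?_, V, r, e, haV, he⟩
  have h2 : P ∈ hW.fromSpec ⁻¹ᵁ S.basicOpen a := hsa
  rw [hW.fromSpec_preimage_basicOpen] at h2
  exact h2 ha

/-- Multiplication by a regular function of the base is injective on sections. -/
theorem eq_of_smul_eq [Flat f] (hE : FlatMod.IsFinLocFree E) {W : S.Opens} (hW : IsAffineOpen W) {O : X.Opens}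
    (hO : O ≤ f ⁻¹ᵁ W) {c : Γ(S, W)} (hc : IsSMulRegular Γ(S, W) c) {x y : Γ(E, O)}
    (h : f.appLE W O hO c • x = f.appLE W O hO c • y) : x = y := by
  choose C hC hxC hCO using fun z : O => (show ∃ C : X.Opens, IsAffineOpen C ∧ z.1 ∈ C ∧ C ≤ O from
    (exists_isAffineOpen_mem_and_subset z.2).imp fun C ⟨a, b, c⟩ => ⟨a, b, c⟩)
  haveI : E.IsQuasicoherent := Modules.AffineSections.isQCoh_of_isFinLocFree hE
  refine TensorMod.HomGlue.sections_ext_cover C E
    (fun z hz => Opens.mem_iSup.2 ⟨⟨z, hz⟩, hxC _⟩) fun z => ?_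
  rw [← rs_rs E (hCO z) (inf_le_right : O ⊓ C z ≤ C z) x,
    ← rs_rs E (hCO z) (inf_le_right : O ⊓ C z ≤ C z) y]
  congr 1
  letI : Algebra Γ(S, W) Γ(X, C z) := (f.appLE W (C z) ((hCO z).trans hO)).hom.toAlgebra
  letI : Module Γ(S, W) Γ(E, C z) := Module.compHom _ (f.appLE W (C z) ((hCO z).trans hO)).hom
  haveI : IsScalarTower Γ(S, W) Γ(X, C z) Γ(E, C z) := IsScalarTower.of_algebraMap_smul fun _ _ => rfl
  haveI : Module.Flat Γ(S, W) Γ(X, C z) := f.flat_appLE hW (hC z) ((hCO z).trans hO)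
  haveI := (Modules.AffineSections.finite_projective_sections hE (hC z)).2
  haveI : Module.Flat Γ(S, W) Γ(E, C z) := Module.Flat.trans _ Γ(X, C z) _
  refine regular_flat (N := Γ(E, C z)) hc ?_
  have h2 := congrArg (rs E (hCO z)) h
  rw [rs_smul, rs_smul] at h2
  have hr : rf (hCO z) (f.appLE W O hO c) = f.appLE W (C z) ((hCO z).trans hO) c :=
    congrArg (fun φ => φ c) (f.appLE_map hO (homOfLE (hCO z)).op)
  rw [hr] at h2
  exact h2

set_option maxHeartbeats 4000000 in
/-- The key algebraic step on affine opens. -/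
theorem bijective_counit [Flat f] [QuasiCompact f] [QuasiSeparated f] [IsLocallyNoetherian S]
    (hO : ∀ U : S.Opens, Function.Bijective (f.app U).hom) (hS : Pi1.IsNormalScheme S)
    (hE : FlatMod.IsFinLocFree E) (hG : Coh.IsCoh (pushM f E))
    (h1 : ∀ s : S, ringKrullDim (S.presheaf.stalk s) ≤ 1 →
      ∃ r : ℕ, Nonempty ((Scheme.Modules.pullback (pullback.fst f (S.fromSpecStalk s))).obj E ≅
        FlatMod.freeMod (pullback f (S.fromSpecStalk s)) r))
    {W : S.Opens} (hW : IsAffineOpen W) {C : X.Opens} (hC : IsAffineOpen C) (hCW : C ≤ f ⁻¹ᵁ W) :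
    Function.Bijective (((counitM f E)).app C) := by
  haveI : ((pushM f E)).IsQuasicoherent := hG.1
  haveI : E.IsQuasicoherent := Modules.AffineSections.isQCoh_of_isFinLocFree hE
  haveI : IsNoetherianRing Γ(S, W) := IsLocallyNoetherian.component_noetherian ⟨W, hW⟩
  haveI : Module.Finite Γ(S, W) Γ((pushM f E), W) := CohBasics.Closure.finite_sections hG hW
  have hloc : ∀ (p : Ideal Γ(S, W)) [p.IsPrime],
      IsDomain (Localization.AtPrime p) ∧ IsIntegrallyClosed (Localization.AtPrime p) := by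
    intro p _
    let P : PrimeSpectrum Γ(S, W) := ⟨p, inferInstance⟩
    let s : S := hW.fromSpec P
    have hs : s ∈ W := hW.opensRange_fromSpec.le ⟨P, rfl⟩
    have hP : hW.primeIdealOf ⟨s, hs⟩ = P :=
      hW.fromSpec.isOpenEmbedding.injective (hW.fromSpec_primeIdealOf ⟨s, hs⟩)
    letI : Algebra Γ(S, W) (S.presheaf.stalk s) := TopCat.Presheaf.algebra_section_stalk S.presheaf ⟨s, hs⟩
    haveI : IsLocalization.AtPrime (S.presheaf.stalk s) p := by
      have := hW.isLocalization_stalk ⟨s, hs⟩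
      rwa [hP] at this
    obtain ⟨hd, hi⟩ := hS s
    let e := (IsLocalization.algEquiv p.primeCompl (S.presheaf.stalk s) (Localization.AtPrime p)).toRingEquiv
    exact ⟨e.symm.toMulEquiv.isDomain _, IsIntegrallyClosed.of_equiv e⟩
  have hR : ∀ p ∈ associatedPrimes Γ(S, W) Γ(S, W), p.height ≤ 1 := fun p hp =>
    height_le_one hloc (r := 0) (by
      rw [LinearEquiv.AssociatedPrimes.eq (Submodule.quotEquivOfEqBot (Ideal.span {(0 : Γ(S, W))})
        (Ideal.span_singleton_eq_bot.2 rfl))]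
      exact hp)
  -- data on an affine open
  have hsec : ∀ (O : X.Opens) (hO : O ≤ f ⁻¹ᵁ W) (c : Γ(S, W)) (m : Γ((pushM f E), W)),
      rs E hO (c • m : Γ((pushM f E), W)) = f.appLE W O hO c • rs E hO m := fun O hO c m => rs_smul E hO _ _
  have hflatC : ∀ (C : X.Opens) (hC : IsAffineOpen C) (hCW : C ≤ f ⁻¹ᵁ W),
      letI : Module Γ(S, W) Γ(E, C) := Module.compHom _ (f.appLE W C hCW).hom
      Module.Flat Γ(S, W) Γ(E, C) := by
    intro C hC hCW
    letI : Algebra Γ(S, W) Γ(X, C) := (f.appLE W C hCW).hom.toAlgebra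
    letI : Module Γ(S, W) Γ(E, C) := Module.compHom _ (f.appLE W C hCW).hom
    haveI : IsScalarTower Γ(S, W) Γ(X, C) Γ(E, C) := IsScalarTower.of_algebraMap_smul fun _ _ => rfl
    haveI : Module.Flat Γ(S, W) Γ(X, C) := f.flat_appLE hW hC hCW
    haveI := (Modules.AffineSections.finite_projective_sections hE hC).2
    exact Module.Flat.trans _ Γ(X, C) _
  choose D hD hxD hDW using fun z : (f ⁻¹ᵁ W : X.Opens) => (show ∃ C : X.Opens, IsAffineOpen C ∧ z.1 ∈ C ∧ C ≤ f ⁻¹ᵁ W from
    (exists_isAffineOpen_mem_and_subset z.2).imp fun C ⟨a, b, c⟩ => ⟨a, b, c⟩)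
  have hcov : f ⁻¹ᵁ W ≤ iSup D := fun z hz => Opens.mem_iSup.2 ⟨⟨z, hz⟩, hxD _⟩
  have hM : ∀ p ∈ associatedPrimes Γ(S, W) Γ((pushM f E), W), p.height ≤ 1 := by
    intro p hp
    haveI := hp.isPrime
    obtain ⟨-, m, hm⟩ := isAssociatedPrime_iff.1 hp
    by_contra hbig
    obtain ⟨u, hu, hreg⟩ := exists_regular_mem (L := Γ(S, W)) p fun q hq hle =>
      hbig ((Ideal.height_mono hle).trans (hR q hq))
    rw [hm, Submodule.mem_colon_singleton, Submodule.mem_bot] at hu
    have hm0 : m = 0 := eq_of_smul_eq f E hE hW le_rfl hreg (x := (m : Γ(E, f ⁻¹ᵁ W))) (y := 0)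
      (by rw [smul_zero, ← f.app_eq_appLE]; exact hu)
    exact hp.isPrime.ne_top ((Ideal.eq_top_iff_one _).2 (by
      rw [hm, Submodule.mem_colon_singleton, Submodule.mem_bot, one_smul, hm0]))
  have hsat : ∀ (c : Γ(S, W)) (m : Γ((pushM f E), W)), IsSMulRegular Γ(S, W) c →
      (∀ p : Ideal Γ(S, W), p.IsPrime → p.height ≤ 1 → ∃ u ∉ p, ∃ m', u • m = c • m') →
      ∃ m', m = c • m' := by
    intro c m hc h
    have hx : ∀ z, ∃ n : Γ(E, D z), rs E (hDW z) m = f.appLE W (D z) (hDW z) c • n := by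
      intro z
      letI : Module Γ(S, W) Γ(E, D z) := Module.compHom _ (f.appLE W (D z) (hDW z)).hom
      haveI := hflatC _ (hD z) (hDW z)
      let n : Γ(E, D z) := rs E (hDW z) m
      obtain ⟨y, hy⟩ := mem_smul (L := Γ(S, W)) (N := Γ(E, D z)) c (n ⊗ₜ 1) fun p hp => by
        have hrange : LinearMap.range (LinearMap.lsmul Γ(S, W) Γ(S, W) c) = Ideal.span {c} := by
          ext w
          simp [Ideal.mem_span_singleton', mul_comm]
        rw [hrange] at hp
        obtain ⟨u, hu, m', hm'⟩ := h p hp.isPrime (height_le_one hloc hp)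
        refine ⟨u, hu, (rs E (hDW z) m' : Γ(E, D z)) ⊗ₜ 1, ?_⟩
        rw [TensorProduct.smul_tmul', TensorProduct.smul_tmul']
        congr 1
        exact ((hsec _ (hDW z) u m).symm.trans (congrArg (rs E (hDW z)) hm')).trans (hsec _ (hDW z) c m')
      refine ⟨TensorProduct.rid Γ(S, W) _ y, ?_⟩
      have := congrArg (TensorProduct.rid Γ(S, W) Γ(E, D z)) hy
      rw [TensorProduct.rid_tmul, one_smul, map_smul] at this
      exact this
    choose n hn using hx
    obtain ⟨m', hm', -⟩ := TopCat.Sheaf.existsUnique_gluing' (⟨E.presheaf, E.isSheaf⟩ : TopCat.Sheaf Ab.{u} X)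
      D (f ⁻¹ᵁ W) (fun z => homOfLE (hDW z)) hcov n fun i j => by
        refine eq_of_smul_eq f E hE hW (inf_le_left.trans (hDW i)) hc ?_
        have hi := congrArg (rs E (inf_le_left : D i ⊓ D j ≤ D i)) (hn i)
        have hj := congrArg (rs E (inf_le_right : D i ⊓ D j ≤ D j)) (hn j)
        rw [rs_rs, rs_smul] at hi hj
        have hr : ∀ (O O' : X.Opens) (h : O' ≤ O) (hO : O ≤ f ⁻¹ᵁ W),
            rf h (f.appLE W O hO c) = f.appLE W O' (h.trans hO) c := fun O O' h hO =>
          congrArg (fun φ => φ c) (f.appLE_map hO (homOfLE h).op)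
        rw [hr] at hi hj
        exact hi.symm.trans hj
    let mG : Γ((pushM f E), W) := m'
    refine ⟨mG, TensorMod.HomGlue.sections_ext_cover D E hcov fun z => ?_⟩
    have h3 : rs E (hDW z) m = rs E (hDW z) (c • mG) := by
      rw [hsec, hn z]
      exact congrArg (_ • ·) (hm' z).symm
    have h4 := congrArg (rs E (inf_le_right : f ⁻¹ᵁ W ⊓ D z ≤ D z)) h3
    rw [rs_rs, rs_rs] at h4
    exact h4
  -- the given affine open
  let T := Γ((pb).obj (pushM f E), C)
  letI : Algebra Γ(S, W) Γ(X, C) := (f.appLE W C hCW).hom.toAlgebra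
  letI : Module Γ(S, W) T := Module.compHom _ (f.appLE W C hCW).hom
  letI : Module Γ(S, W) Γ(E, C) := Module.compHom _ (f.appLE W C hCW).hom
  haveI : IsScalarTower Γ(S, W) Γ(X, C) T := IsScalarTower.of_algebraMap_smul fun _ _ => rfl
  haveI := hflatC _ hC hCW
  haveI : Module.Flat Γ(S, W) Γ(X, C) := f.flat_appLE hW hC hCW
  let φ : T →ₗ[Γ(S, W)] Γ(E, C) :=
    { toFun := ((counitM f E)).app C
      map_add' := map_add _
      map_smul' := fun c t => Scheme.Modules.Hom.app_smul ((counitM f E)) _ t }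
  let e : Γ(X, C) ⊗[Γ(S, W)] Γ((pushM f E), W) ≃ₗ[Γ(S, W)] T :=
    (isBaseChange_mu f (pushM f E) hW hC hCW).equiv.restrictScalars Γ(S, W)
  haveI : ((pb).obj (pushM f E)).IsQuasicoherent := QCoh.Pullback.isQCoh_pullback f (pushM f E)
  have hgood : ∀ p : Ideal Γ(S, W), p.IsPrime → p.height ≤ 1 → ∃ a ∉ p,
      ∃ C' : X.Opens, ∃ h : C' ≤ C, C' = X.basicOpen (f.appLE W C hCW a) ∧
        Function.Bijective (((counitM f E)).app C') := by
    intro p _ hp
    obtain ⟨a, ha, V, r, e₀, haV, he⟩ := exists_good f E hE h1 hW p hp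
    refine ⟨a, ha, _, X.basicOpen_le _, rfl,
      bijective_counit_of_basis f E hO e₀ he (hW.basicOpen a) haV (hC.basicOpen _) ?_⟩
    rw [Scheme.Hom.preimage_basicOpen]
    show X.basicOpen (X.presheaf.map (homOfLE hCW).op (f.app W a)) ≤ _
    rw [Scheme.basicOpen_res]
    exact inf_le_right
  refine bijective e φ hR hM hsat (fun p hp hp1 t ht => ?_) (fun p hp hp1 n => ?_)
  · obtain ⟨a, ha, C', hle, rfl, hb⟩ := hgood p hp hp1
    obtain ⟨k, hk⟩ := (QCoh.Localizing.localizes_of_isAffineOpen ((pb).obj (pushM f E)) hC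
      (f.appLE W C hCW a)).sep t (hb.1 (by
        rw [← QCoh.Localizing.res_app, show ((counitM f E)).app C t = 0 from ht, map_zero, map_zero]))
    refine ⟨a ^ k, fun h => ha (hp.mem_of_pow_mem k h), ?_⟩
    show (f.appLE W C hCW).hom (a ^ k) • t = 0
    rw [map_pow]
    exact hk
  · obtain ⟨a, ha, C', hle, rfl, hb⟩ := hgood p hp hp1
    let a' := f.appLE W C hCW a
    obtain ⟨y, hy⟩ := hb.2 (QCoh.Localizing.res E hle n)
    obtain ⟨k, t, ht⟩ := (QCoh.Localizing.localizes_of_isAffineOpen ((pb).obj (pushM f E)) hC a').ext' y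
    obtain ⟨l, hl⟩ := (QCoh.Localizing.localizes_of_isAffineOpen E hC a').sep.exists_pow_smul_eq
      (t := ((counitM f E)).app C t) (t' := a' ^ k • n) (by
        rw [QCoh.Localizing.res_app, ht, Scheme.Modules.Hom.app_smul, hy, QCoh.Localizing.res_smul,
          map_pow])
    refine ⟨a ^ (l + k), fun h => ha (hp.mem_of_pow_mem _ h), (a ^ l) • t, ?_⟩
    rw [map_smul]
    show (f.appLE W C hCW).hom (a ^ (l + k)) • n = (f.appLE W C hCW).hom (a ^ l) • ((counitM f E)).app C t
    rw [map_pow, map_pow, hl, smul_smul, pow_add]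

/-- A module free over the points of codimension at most one is the pullback of a locally free one. -/
theorem exists_descent [Flat f] [IsProper f] [IsNoetherian S]
    (hO : ∀ U : S.Opens, Function.Bijective (f.app U).hom) (hS : Pi1.IsNormalScheme S)
    (hE : FlatMod.IsFinLocFree E)
    (h1 : ∀ s : S, ringKrullDim (S.presheaf.stalk s) ≤ 1 →
      ∃ r : ℕ, Nonempty ((Scheme.Modules.pullback (pullback.fst f (S.fromSpecStalk s))).obj E ≅
        FlatMod.freeMod (pullback f (S.fromSpecStalk s)) r)) :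
    ∃ Gd : S.Modules, FlatMod.IsFinLocFree Gd ∧ Nonempty (E ≅ (pb).obj Gd) := by
  haveI : IsLocallyNoetherian X := LocallyOfFiniteType.isLocallyNoetherian f
  have hEc : Coh.IsCoh E := Devissage.LocFreeK0.isCoh_of_locFree hE
  have hG : Coh.IsCoh (pushM f E) := Cyc.PP.Push.isCoh_push f hEc
  haveI : ((pushM f E)).IsQuasicoherent := hG.1
  haveI : E.IsQuasicoherent := hEc.1
  let B : Set X.Opens := {C | IsAffineOpen C ∧ ∃ W : S.Opens, IsAffineOpen W ∧ C ≤ f ⁻¹ᵁ W}
  have hB : Opens.IsBasis B := by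
    rw [Opens.isBasis_iff_nbhd]
    intro O x hx
    obtain ⟨W, hW, hxW, -⟩ := exists_isAffineOpen_mem_and_subset (show f x ∈ (⊤ : S.Opens) from trivial)
    obtain ⟨C, hC, hxC, hCO⟩ := exists_isAffineOpen_mem_and_subset (show x ∈ O ⊓ f ⁻¹ᵁ W from ⟨hx, hxW⟩)
    exact ⟨C, ⟨hC, W, hW, fun z hz => (hCO hz).2⟩, hxC, fun z hz => (hCO hz).1⟩
  haveI : IsIso ((counitM f E)) := CohDelta.BC.Transpose.isIso_of_bijective_basis _ hB
    fun C ⟨hC, W, hW, hCW⟩ => bijective_counit f E hO hS hE hG h1 hW hC hCW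
  refine ⟨(pushM f E), Modules.AffineSections.isFinLocFree_of_sections fun s => ?_, ⟨(asIso ((counitM f E))).symm⟩⟩
  obtain ⟨W, hW, hsW, -⟩ := exists_isAffineOpen_mem_and_subset (show s ∈ (⊤ : S.Opens) from trivial)
  refine ⟨W, hW, hsW, CohBasics.Closure.finite_sections hG hW, ?_⟩
  choose D hD hxD hDW using fun z : (f ⁻¹ᵁ W : X.Opens) => (show ∃ C : X.Opens, IsAffineOpen C ∧ z.1 ∈ C ∧ C ≤ f ⁻¹ᵁ W from
    (exists_isAffineOpen_mem_and_subset z.2).imp fun C ⟨a, b, c⟩ => ⟨a, b, c⟩)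
  obtain ⟨t, ht⟩ := (f.isCompact_preimage hW.isCompact).elim_finite_subcover (fun z => (D z : Set X))
    (fun z => (D z).2) (fun z hz => Set.mem_iUnion.2 ⟨⟨z, hz⟩, hxD _⟩)
  let j : Fin t.card → (f ⁻¹ᵁ W : X.Opens) := fun i => (t.equivFin.symm i).1
  letI : ∀ i, Algebra Γ(S, W) Γ(X, D (j i)) := fun i => (f.appLE W _ (hDW (j i))).hom.toAlgebra
  haveI : ∀ i, Module.Flat Γ(S, W) Γ(X, D (j i)) := fun i => f.flat_appLE hW (hD _) (hDW _)
  have hsurj : Function.Surjective f := by
    intro x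
    by_contra hx
    have hcl : IsClosed (Set.range f) := f.isClosedMap.isClosed_range
    let O : S.Opens := ⟨(Set.range f)ᶜ, hcl.isOpen_compl⟩
    have hxO : x ∈ O := hx
    have he : f ⁻¹ᵁ O = ⊥ := eq_bot_iff.2 fun z hz => (hz ⟨z, rfl⟩).elim
    haveI : Subsingleton Γ(X, f ⁻¹ᵁ O) := by rw [he]; infer_instance
    have h01 : (1 : Γ(S, O)) = 0 := (hO O).1 (Subsingleton.elim _ _)
    have h2 := congrArg (S.presheaf.germ O x hxO) h01
    rw [map_one, map_zero] at h2
    exact one_ne_zero h2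
  refine Groth.Agent.H52.QCoh.ProjLocal.projective_of_cover (A := Γ(S, W)) (fun i => Γ(X, D (j i)))
    (fun p => ?_) Γ((pushM f E), W) (fun i => ?_)
  · obtain ⟨x, hx⟩ := hsurj (hW.fromSpec p)
    have hxW : x ∈ f ⁻¹ᵁ W := show f x ∈ W by rw [hx]; exact hW.opensRange_fromSpec.le ⟨p, rfl⟩
    obtain ⟨z, hz, hxz⟩ := Set.mem_iUnion₂.1 (ht hxW)
    obtain ⟨i, rfl⟩ : ∃ i, j i = z := ⟨t.equivFin ⟨z, hz⟩, by simp [j]⟩
    refine ⟨i, (hD (j i)).primeIdealOf ⟨x, hxz⟩, hW.fromSpec.isOpenEmbedding.injective ?_⟩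
    refine Eq.trans ?_ hx
    have h2 := congrArg (fun φ => φ ((hD (j i)).primeIdealOf ⟨x, hxz⟩))
      (IsAffineOpen.SpecMap_appLE_fromSpec f hW (hD (j i)) (hDW (j i)))
    exact h2.trans (congrArg f ((hD (j i)).fromSpec_primeIdealOf _))
  · letI : Module Γ(S, W) Γ((pb).obj (pushM f E), D (j i)) := Module.compHom _ (f.appLE W _ (hDW (j i))).hom
    haveI : IsScalarTower Γ(S, W) Γ(X, D (j i)) Γ((pb).obj (pushM f E), D (j i)) :=
      IsScalarTower.of_algebraMap_smul fun _ _ => rfl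
    haveI : ((Scheme.Modules.pullback f).obj (pushM f E)).IsQuasicoherent := QCoh.Pullback.isQCoh_pullback f _
    haveI := (Modules.AffineSections.finite_projective_sections
      (TensorMod.LocFree.of_iso (asIso (counitM f E)).symm hE) (hD (j i))).2
    exact Module.Projective.of_equiv (isBaseChange_mu f (pushM f E) hW (hD (j i)) (hDW (j i))).equiv.symm

end Groth.Agent.Lib.FlatDesc71
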